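import Cfsg.Agent.H710.VanCount
import Cfsg.Agent.CpAutLy.Row

/-!
# The row of the Lyons group for S4943 (helper710)

In `C(t) = 2.A_11` there are elements of orders 18 and 24 over the cycle types `9` and `6 4`, their
centralizers have orders at most 18 and 24; `Ly` has elements of 26 different orders.
-/

set_option autoImplicit false
set_option Elab.async false
set_option linter.unusedSectionVars false

namespace Cfsg.Agent.H710.Spor.Ly

open Cfsg Subgroup Equiv Cfsg.Agent.H713 Cfsg.Agent.H710.VanCount Cfsg.Agent.SporRec.TwoAn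

universe u v

section cover

variable {C : Type*} [Group C] (K : Cover (Fin 11) C)

include K in
theorem odd_orders {σ : Perm (Fin 11)} (hσ : σ ∈ alternatingGroup (Fin 11)) {n : ℕ} (hn : Odd n)
    (ho : orderOf σ = n) : ∃ y : C, K.π y = σ ∧ orderOf y = n ∧ orderOf (y * K.z) = n * 2 ∧
      (y * K.z) ^ n = K.z := by
  obtain ⟨y, hy, hyn⟩ := K.exists_odd_lift hσ hn (by rw [← ho]; exact pow_orderOf_eq_one σ)
  have h1 : orderOf y = n := by
    refine Nat.dvd_antisymm (orderOf_dvd_of_pow_eq_one hyn) ?_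
    rw [← ho, ← hy]
    exact orderOf_map_dvd K.π y
  have hc : Commute y K.z := K.z_comm y
  refine ⟨y, hy, h1, ?_, ?_⟩
  · rw [hc.orderOf_mul_eq_mul_orderOf_of_coprime, h1, K.orderOf_z]
    rw [h1, K.orderOf_z]
    exact Nat.coprime_two_right.2 hn
  · rw [hc.mul_pow, hyn, one_mul, K.z_pow, if_neg (Nat.not_even_iff_odd.mpr hn)]

include K in
theorem even_orders {σ : Perm (Fin 11)} (hσ : σ ∈ alternatingGroup (Fin 11)) {n : ℕ}
    {a b c d : Fin 11} (hab : a ≠ b) (hac : a ≠ c) (had : a ≠ d) (hbc : b ≠ c) (hbd : b ≠ d)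
    (hcd : c ≠ d) (h : σ ^ n = swap a b * swap c d) (ho : orderOf σ = n * 2) :
    ∃ y : C, K.π y = σ ∧ orderOf y = n * 2 * 2 ∧ y ^ (n * 2) = K.z := by
  obtain ⟨y, hy⟩ := K.exists_lift hσ
  have h1 : y ^ (n * 2) = K.z := by
    rw [pow_mul, pow_two]
    exact K.dbl a b c d hab hac had hbc hbd hcd _ (by rw [map_pow, hy, h])
  have hdvd : orderOf y ∣ n * 2 * 2 :=
    orderOf_dvd_of_pow_eq_one (by rw [pow_mul, h1, K.z_pow_two])
  have h2 : n * 2 ∣ orderOf y := by
    rw [← ho, ← hy]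
    exact orderOf_map_dvd K.π y
  have h3 : ¬ orderOf y ∣ n * 2 := by
    intro h4
    apply K.z_ne
    rw [← h1]
    exact orderOf_dvd_iff_pow_eq_one.1 h4
  refine ⟨y, hy, ?_, h1⟩
  obtain ⟨k, hk⟩ := h2
  have hn0 : n * 2 ≠ 0 := by
    intro h5
    rw [h5] at h1
    exact K.z_ne (by rw [← h1, pow_zero])
  have h4 : k ∣ 2 := by
    rw [hk] at hdvd
    exact Nat.dvd_of_mul_dvd_mul_left (Nat.pos_of_ne_zero hn0) hdvd
  rcases (Nat.dvd_prime Nat.prime_two).1 h4 with rfl | rfl
  · exfalso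
    apply h3
    rw [hk, mul_one]
  · exact hk

end cover

/-! ### The permutations -/

/-- the cycle `a, a + 1, ..., a + n - 1` -/
def cyc (a n : ℕ) : Perm (Fin 11) :=
  ((List.range (n - 1)).map fun i => swap (Fin.ofNat 11 (a + i)) (Fin.ofNat 11 (a + i + 1))).prod

/-- `σ` has order `n` -/
def hasOrd (σ : Perm (Fin 11)) (n : ℕ) : Prop :=
  σ ^ n = 1 ∧ ∀ m < n, 0 < m → σ ^ m ≠ 1

instance (σ : Perm (Fin 11)) (n : ℕ) : Decidable (hasOrd σ n) := by
  unfold hasOrd
  infer_instance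

theorem orderOf_of_hasOrd {σ : Perm (Fin 11)} {n : ℕ} (hn : 0 < n) (h : hasOrd σ n) :
    orderOf σ = n := (orderOf_eq_iff hn).2 h

def t3 := cyc 0 3
def t5 := cyc 0 5
def t7 := cyc 0 7
def t9 := cyc 0 9
def t11 := cyc 0 11
def t15 := cyc 0 5 * cyc 5 3
def t21 := cyc 0 7 * cyc 7 3
def t4 : Perm (Fin 11) := swap 0 1 * swap 2 3
def t8 : Perm (Fin 11) := cyc 0 4 * swap 4 5
def t12 : Perm (Fin 11) := cyc 0 3 * (swap 3 4 * swap 5 6)
def t20 : Perm (Fin 11) := cyc 0 5 * (swap 5 6 * swap 7 8)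
def t24 : Perm (Fin 11) := cyc 0 4 * cyc 4 6
def t28 : Perm (Fin 11) := cyc 0 7 * (swap 7 8 * swap 9 10)
def t40 : Perm (Fin 11) := cyc 0 4 * (cyc 4 5 * swap 9 10)

theorem sgn : Perm.sign t3 = 1 ∧ Perm.sign t5 = 1 ∧ Perm.sign t7 = 1 ∧ Perm.sign t9 = 1 ∧
    Perm.sign t11 = 1 ∧ Perm.sign t15 = 1 ∧ Perm.sign t21 = 1 ∧ Perm.sign t4 = 1 ∧
    Perm.sign t8 = 1 ∧ Perm.sign t12 = 1 ∧ Perm.sign t20 = 1 ∧ Perm.sign t24 = 1 ∧
    Perm.sign t28 = 1 ∧ Perm.sign t40 = 1 := by
  decide +kernel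

theorem o3 : orderOf t3 = 3 := orderOf_of_hasOrd (by norm_num) (by decide +kernel)
theorem o5 : orderOf t5 = 5 := orderOf_of_hasOrd (by norm_num) (by decide +kernel)
theorem o7 : orderOf t7 = 7 := orderOf_of_hasOrd (by norm_num) (by decide +kernel)
theorem o9 : orderOf t9 = 9 := orderOf_of_hasOrd (by norm_num) (by decide +kernel)
theorem o11 : orderOf t11 = 11 := orderOf_of_hasOrd (by norm_num) (by decide +kernel)
theorem o15 : orderOf t15 = 15 := orderOf_of_hasOrd (by norm_num) (by decide +kernel)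
theorem o21 : orderOf t21 = 21 := orderOf_of_hasOrd (by norm_num) (by decide +kernel)
theorem o4 : orderOf t4 = 2 := orderOf_of_hasOrd (by norm_num) (by decide +kernel)
theorem o8 : orderOf t8 = 4 := orderOf_of_hasOrd (by norm_num) (by decide +kernel)
theorem o12 : orderOf t12 = 6 := orderOf_of_hasOrd (by norm_num) (by decide +kernel)
theorem o20 : orderOf t20 = 10 := orderOf_of_hasOrd (by norm_num) (by decide +kernel)
theorem o24 : orderOf t24 = 12 := orderOf_of_hasOrd (by norm_num) (by decide +kernel)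
theorem o28 : orderOf t28 = 14 := orderOf_of_hasOrd (by norm_num) (by decide +kernel)
theorem o40 : orderOf t40 = 20 := orderOf_of_hasOrd (by norm_num) (by decide +kernel)

theorem p4 : t4 ^ 1 = swap 0 1 * swap 2 3 := by decide +kernel
theorem p8 : t8 ^ 2 = swap 0 2 * swap 1 3 := by decide +kernel
theorem p12 : t12 ^ 3 = swap 3 4 * swap 5 6 := by decide +kernel
theorem p20 : t20 ^ 5 = swap 5 6 * swap 7 8 := by decide +kernel
theorem p24 : t24 ^ 6 = swap 0 2 * swap 1 3 := by decide +kernel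
theorem p28 : t28 ^ 7 = swap 7 8 * swap 9 10 := by decide +kernel
theorem p40 : t40 ^ 10 = swap 0 2 * swap 1 3 := by decide +kernel

theorem type9 : t9.cycleType = {9} := by decide +kernel
theorem type24 : t24.cycleType = {4, 6} := by decide +kernel

theorem card9 : Nat.card (centralizer ({t9} : Set (Perm (Fin 11)))) = 18 := by
  rw [Equiv.Perm.nat_card_centralizer, type9]
  decide

theorem card24 : Nat.card (centralizer ({t24} : Set (Perm (Fin 11)))) = 24 := by
  rw [Equiv.Perm.nat_card_centralizer, type24]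
  decide

theorem hasOdd9 : Cfsg.Agent.CpAutLy.Cov.HasOdd t9 := by
  refine ⟨swap 9 10, ?_, ?_⟩ <;> decide +kernel

theorem hasOdd24 : Cfsg.Agent.CpAutLy.Cov.HasOdd t24 := by
  refine ⟨cyc 0 4, ?_, ?_⟩ <;> decide +kernel

/-! ### The Lyons group -/

section mt

variable {G : Type*} [Group G] [Finite G] (L : Cfsg.Agent.TypeM.Two.MT 11 G)

/-- An element of `C(t)` with a power equal to `t` has its centralizer in `C(t)`. -/
theorem card_centralizer_le {y : centralizer ({L.t} : Set G)} {k : ℕ} (hk : y ^ k = L.K.z) :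
    Nat.card (centralizer ({(y : G)} : Set G)) ≤
      Nat.card (centralizer ({y} : Set (centralizer ({L.t} : Set G)))) := by
  have hk' : (y : G) ^ k = L.t := (congrArg Subtype.val hk).trans L.hz
  have hmem : ∀ g ∈ centralizer ({(y : G)} : Set G), g ∈ centralizer ({L.t} : Set G) := by
    intro g hg
    rw [mem_centralizer_singleton_iff] at hg ⊢
    rw [← hk']
    exact Commute.pow_right (show Commute g (y : G) from hg) k
  refine Nat.card_le_card_of_injective
    (fun g : centralizer ({(y : G)} : Set G) => (⟨⟨(g : G), hmem g g.2⟩, ?_⟩ :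
      centralizer ({y} : Set (centralizer ({L.t} : Set G))))) ?_
  · rw [mem_centralizer_singleton_iff]
    exact Subtype.ext (mem_centralizer_singleton_iff.1 g.2)
  · intro a b hab
    have h1 := congrArg (fun x : centralizer ({y} : Set (centralizer ({L.t} : Set G))) =>
      ((x : centralizer ({L.t} : Set G)) : G)) hab
    exact Subtype.ext h1

include L

theorem exists18 : ∃ w : G, orderOf w = 18 ∧ Nat.card (centralizer ({w} : Set G)) ≤ 18 := by
  obtain ⟨y, hy, -, h1, h2⟩ := odd_orders L.K (Perm.mem_alternatingGroup.2 sgn.2.2.2.1)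
    (by decide) o9
  refine ⟨((y * L.K.z : centralizer ({L.t} : Set G)) : G), by rw [Subgroup.orderOf_coe, h1], ?_⟩
  refine (card_centralizer_le L h2).trans ?_
  have h3 : L.K.π (y * L.K.z) = t9 := by rw [map_mul, L.K.π_z, mul_one, hy]
  refine Nat.le_of_dvd (by norm_num) ?_
  rw [← card9, ← h3]
  exact Cfsg.Agent.CpAutLy.Cov.card_dvd L.K (by rw [h3]; exact hasOdd9)

theorem exists24 : ∃ w : G, orderOf w = 24 ∧ Nat.card (centralizer ({w} : Set G)) ≤ 24 := by
  obtain ⟨y, hy, h1, h2⟩ := even_orders L.K (n := 6)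
    (Perm.mem_alternatingGroup.2 sgn.2.2.2.2.2.2.2.2.2.2.2.1)
    (a := 0) (b := 2) (c := 1) (d := 3) (by decide) (by decide) (by decide) (by decide) (by decide)
    (by decide) p24 o24
  refine ⟨(y : G), by rw [Subgroup.orderOf_coe, h1], ?_⟩
  refine (card_centralizer_le L h2).trans ?_
  refine Nat.le_of_dvd (by norm_num) ?_
  rw [← card24, ← hy]
  exact Cfsg.Agent.CpAutLy.Cov.card_dvd L.K (by rw [hy]; exact hasOdd24)

theorem odd_pair {σ : Perm (Fin 11)} (hσ : Perm.sign σ = 1) {n : ℕ} (hn : Odd n)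
    (ho : orderOf σ = n) : (∃ g : G, orderOf g = n) ∧ ∃ g : G, orderOf g = n * 2 := by
  obtain ⟨y, -, h1, h2, -⟩ := odd_orders L.K (Perm.mem_alternatingGroup.2 hσ) hn ho
  exact ⟨⟨(y : G), by rw [Subgroup.orderOf_coe, h1]⟩,
    ⟨((y * L.K.z : centralizer ({L.t} : Set G)) : G), by rw [Subgroup.orderOf_coe, h2]⟩⟩

theorem even_one {σ : Perm (Fin 11)} (hσ : Perm.sign σ = 1) (n : ℕ)
    (a b c d : Fin 11) (hd : [a, b, c, d].Nodup) (h : σ ^ n = swap a b * swap c d)
    (ho : orderOf σ = n * 2) : ∃ g : G, orderOf g = n * 2 * 2 := by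
  simp only [List.nodup_cons, List.mem_cons, List.not_mem_nil, or_false, not_or] at hd
  obtain ⟨y, -, h1, -⟩ := even_orders L.K (Perm.mem_alternatingGroup.2 hσ) hd.1.1 hd.1.2.1 hd.1.2.2
    hd.2.1.1 hd.2.1.2 hd.2.2.1 h ho
  exact ⟨(y : G), by rw [Subgroup.orderOf_coe, h1]⟩

/-- The orders of elements of a group with an involution centralizer `2.A_11`. -/
theorem exists_orders : ∀ n ∈ ({1, 3, 5, 7, 9, 11, 15, 21, 2, 6, 10, 14, 18, 22, 30, 42,
    4, 8, 12, 20, 24, 28, 40} : Finset ℕ), ∃ g : G, orderOf g = n := by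
  obtain ⟨s3, s5, s7, s9, s11, s15, s21, s4, s8, s12, s20, s24, s28, s40⟩ := sgn
  intro n hn
  simp only [Finset.mem_insert, Finset.mem_singleton] at hn
  rcases hn with rfl | rfl | rfl | rfl | rfl | rfl | rfl | rfl | rfl | rfl | rfl | rfl | rfl | rfl |
    rfl | rfl | rfl | rfl | rfl | rfl | rfl | rfl | rfl
  · exact ⟨1, orderOf_one⟩
  · exact (odd_pair L s3 (by decide) o3).1
  · exact (odd_pair L s5 (by decide) o5).1
  · exact (odd_pair L s7 (by decide) o7).1
  · exact (odd_pair L s9 (by decide) o9).1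
  · exact (odd_pair L s11 (by decide) o11).1
  · exact (odd_pair L s15 (by decide) o15).1
  · exact (odd_pair L s21 (by decide) o21).1
  · exact ⟨L.t, L.orderOf_t⟩
  · exact (odd_pair L s3 (by decide) o3).2
  · exact (odd_pair L s5 (by decide) o5).2
  · exact (odd_pair L s7 (by decide) o7).2
  · exact (odd_pair L s9 (by decide) o9).2
  · exact (odd_pair L s11 (by decide) o11).2
  · exact (odd_pair L s15 (by decide) o15).2
  · exact (odd_pair L s21 (by decide) o21).2
  · exact even_one L s4 1 0 1 2 3 (by decide) p4 o4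
  · exact even_one L s8 2 0 2 1 3 (by decide) p8 o8
  · exact even_one L s12 3 3 4 5 6 (by decide) p12 o12
  · exact even_one L s20 5 5 6 7 8 (by decide) p20 o20
  · exact even_one L s24 6 0 2 1 3 (by decide) p24 o24
  · exact even_one L s28 7 7 8 9 10 (by decide) p28 o28
  · exact even_one L s40 10 0 2 1 3 (by decide) p40 o40

end mt

theorem card_classes : 26 ≤ Nat.card (ConjClasses Cfsg.Spor.Ly) := by
  have hfin : Finite Cfsg.Spor.Ly := Cfsg.Agent.Ly.Setup.finite_ly
  obtain ⟨L⟩ := Cfsg.Agent.TypeM.FactsLy.exists_mt_ly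
  have h := le_card_conjClasses (G := Cfsg.Spor.Ly)
    {1, 3, 5, 7, 9, 11, 15, 21, 2, 6, 10, 14, 18, 22, 30, 42, 4, 8, 12, 20, 24, 28, 40, 31, 37, 67} ?_
  · exact h
  · intro n hn
    by_cases h1 : n ∈ ({1, 3, 5, 7, 9, 11, 15, 21, 2, 6, 10, 14, 18, 22, 30, 42,
        4, 8, 12, 20, 24, 28, 40} : Finset ℕ)
    · exact exists_orders L n h1
    · have h2 : n = 31 ∨ n = 37 ∨ n = 67 := by
        simp only [Finset.mem_insert, Finset.mem_singleton] at hn h1
        tauto
      have hcard : Nat.card Cfsg.Spor.Ly = 51765179004000000 := Cfsg.Agent.Ly.Setup.card_ly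
      rcases h2 with rfl | rfl | rfl
      · have : Fact (Nat.Prime 31) := ⟨by norm_num⟩
        exact exists_prime_orderOf_dvd_card' 31 (by rw [hcard]; norm_num)
      · have : Fact (Nat.Prime 37) := ⟨by norm_num⟩
        exact exists_prime_orderOf_dvd_card' 37 (by rw [hcard]; norm_num)
      · have : Fact (Nat.Prime 67) := ⟨by norm_num⟩
        exact exists_prime_orderOf_dvd_card' 67 (by rw [hcard]; norm_num)

theorem row_ly' : Row.{u, 0} Cfsg.Spor.Ly := by
  have hfin : Finite Cfsg.Spor.Ly := Cfsg.Agent.Ly.Setup.finite_ly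
  obtain ⟨L⟩ := Cfsg.Agent.TypeM.FactsLy.exists_mt_ly
  obtain ⟨x, hx, hx'⟩ := exists18 L
  obtain ⟨y, hy, hy'⟩ := exists24 L
  have hc := card_classes
  exact row_of_vz (vz_of_card_inner x (by omega) Cfsg.Agent.TypeM.OutLyFin.inner_ly)
    (vz_of_card_inner y (by omega) Cfsg.Agent.TypeM.OutLyFin.inner_ly) (by rw [hx, hy]; norm_num)
    (d := 6) (by norm_num) (by rw [hx]; norm_num) (by rw [hy]; norm_num)

theorem row_ly {S : Type v} [Group S] (h : Spor.IsoLy S) : Row.{u, v} S := by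
  obtain ⟨e⟩ := h
  exact Row.mulEquiv row_ly' e.symm

end Cfsg.Agent.H710.Spor.Ly
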