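import Cfsg.Agent.HN.CentBound

/-!
# An element of order 11 of `2.HS.2` commutes with 22 elements (helper710)

`x` is a word of order 11 in `H0` (`2.HS.2` inside the Harada–Norton group); `mem_of_comm` : an element
of `H0` commuting with `x` is `x ^ k` or `x ^ k * τ` with `k < 11`.
-/

set_option autoImplicit false
set_option maxRecDepth 100000

namespace Cfsg.Agent.H710.Spor.HNCent

open Cfsg.Agent.HN.Pres Cfsg.Agent.HN.HS100 Cfsg.Agent.HN.P1408 Cfsg.Agent.HN.H0Basic
open Cfsg.Agent.HN.CentBound Equiv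
open Cfsg.Agent.SporadicA.PermTab (band allB allB_iff band_eq_true lk bitM autG mem_autG)

noncomputable section

def xw : List ℕ := [0, 2, 2, 2, 4, 2, 4]

/-- an element of order 11 -/
def x : H0 := hw xw

def pw (n : ℕ) : List ℕ := Nat.rec [] (fun _ ih => xw ++ ih) n

theorem hw_pw (n : ℕ) : hw (pw n) = x ^ n := by
  induction n with
  | zero => rw [pow_zero]; exact hw_nil
  | succ n ih =>
    rw [pow_succ', ← ih]
    exact hw_append xw (pw n)

theorem x_pow : x ^ 11 = 1 := by
  rw [← hw_pw, ← hw_nil]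
  exact hw_eq (by decide +kernel)

/-- iterated images of a point -/
def tx (k i : ℕ) : ℕ := Nat.rec i (fun _ ih => tl xw ih) k

theorem val_pow (k : ℕ) (i : Fin 100) : (((φ x) ^ k) i : ℕ) = tx k i := by
  induction k with
  | zero => rfl
  | succ k ih =>
    rw [pow_succ', Perm.mul_apply, x, φ_hw_apply, ← x, ih]
    rfl

theorem tx_add (k j i : ℕ) : tx (k + j) i = tx k (tx j i) := by
  induction k with
  | zero => rw [Nat.zero_add]; rfl
  | succ k ih =>
    rw [Nat.succ_add]
    change tl xw (tx (k + j) i) = tl xw (tx k (tx j i))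
    rw [ih]

theorem chk_fix : ∀ i < 100, tl xw i = i → i = 94 := by decide +kernel
theorem chk_94 : tl xw 94 = 94 := by decide +kernel
theorem chk_nb : ∀ w < 100, bitM 100 adjA 94 w = 1 → ∃ k < 11, w = tx k 4 ∨ w = tx k 13 := by
  decide +kernel
theorem chk_4 : bitM 100 adjA 94 4 = 1 := by decide +kernel
theorem chk_13 : bitM 100 adjA 94 13 = 1 := by decide +kernel
theorem chk_ne : ∀ k < 11, tx k 4 ≠ 13 := by decide +kernel

/-- some point of `L` is joined to exactly one of `v`, `w`. -/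
def sep (L : List ℕ) (v w : ℕ) : Bool := List.rec false
  (fun s _ ih => Bool.rec true ih (Nat.beq (bitM 100 adjA v s) (bitM 100 adjA w s))) L

theorem exists_of_sep {L : List ℕ} {v w : ℕ} (h : sep L v w = true) :
    ∃ s ∈ L, bitM 100 adjA v s ≠ bitM 100 adjA w s := by
  induction L with
  | nil => exact absurd h (by simp [sep])
  | cons s L ih =>
    have h1 : (Bool.rec true (sep L v w) (Nat.beq (bitM 100 adjA v s) (bitM 100 adjA w s)) : Bool) = true := h
    cases hb : Nat.beq (bitM 100 adjA v s) (bitM 100 adjA w s) with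
    | false => exact ⟨s, List.mem_cons_self, Nat.ne_of_beq_eq_false hb⟩
    | true =>
      rw [hb] at h1
      obtain ⟨s', hs', hne⟩ := ih h1
      exact ⟨s', List.mem_cons_of_mem _ hs', hne⟩

/-- the points of `M` are determined by their neighbours in `L`. -/
def chkU (L M : List ℕ) : Bool := List.rec true
  (fun v _ ih => band (allB (fun w => Bool.rec (sep L v w) true (Nat.beq v w)) 100) ih) M

theorem chkU_spec {L M : List ℕ} (h : chkU L M = true) {v w : ℕ} (hv : v ∈ M) (hw : w < 100)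
    (hne : v ≠ w) : sep L v w = true := by
  induction M with
  | nil => exact absurd hv List.not_mem_nil
  | cons m M ih =>
    have h1 : band (allB (fun w => Bool.rec (sep L m w) true (Nat.beq m w)) 100) (chkU L M) = true := h
    rw [band_eq_true] at h1
    rcases List.mem_cons.1 hv with rfl | hv
    · have h2 := (allB_iff _ _).1 h1.1 w hw
      cases hb : Nat.beq v w with
      | false => rw [hb] at h2; exact h2
      | true => exact absurd (Nat.eq_of_beq_eq_true hb) hne
    · exact ih h1.2 hv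

/-- `g` fixes all the points of `L`. -/
def Fixes (g : Perm (Fin 100)) (L : List ℕ) : Prop := ∀ i ∈ L, ∃ h : i < 100, g ⟨i, h⟩ = ⟨i, h⟩

theorem Fixes.step {g : Perm (Fin 100)} (hg : g ∈ autG 100 adjA) {L M : List ℕ} (h : chkU L M = true)
    (hM : ∀ i ∈ M, i < 100) (hL : Fixes g L) : Fixes g M := by
  intro i hi
  refine ⟨hM i hi, ?_⟩
  by_contra hne
  have hne' : i ≠ (g ⟨i, hM i hi⟩ : ℕ) := fun h => hne (Fin.ext h.symm)
  obtain ⟨s, hs, hs'⟩ := exists_of_sep (chkU_spec h hi (g ⟨i, hM i hi⟩).2 hne')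
  obtain ⟨hs1, hs2⟩ := hL s hs
  apply hs'
  have h3 := mem_autG.1 hg ⟨i, hM i hi⟩ ⟨s, hs1⟩
  rw [hs2] at h3
  exact h3.symm

def L0 : List ℕ := [94, 4, 49, 84, 96, 62, 78, 88, 86, 6, 21, 18]
def L1 : List ℕ := [0, 1, 2, 3, 5, 7, 8, 9, 10, 11, 12, 14, 15, 16, 17, 19, 20, 22, 24, 25, 26, 27, 28, 29, 30, 31, 32, 33, 34, 35, 36, 37, 38, 39, 40, 42, 43, 44, 45, 47, 48, 50, 52, 53, 54, 55, 56, 58, 59, 61, 63, 64, 65, 66, 67, 69, 70, 71, 72, 73, 74, 75, 76, 77, 80, 81, 82, 83, 87, 89, 90, 91, 93, 94, 95, 97, 98, 99]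

theorem chk_L0 : ∀ i ∈ L0, i < 100 ∧ (i = 94 ∨ ∃ k < 11, i = tx k 4) := by decide +kernel
theorem chkU0 : chkU L0 L1 = true := by decide +kernel
theorem chkU1 : chkU L1 (List.range 100) = true := by decide +kernel
theorem chk_L1 : ∀ i ∈ L1, i < 100 := by decide +kernel

/-- the map `x ^ k 4 ↦ x ^ k 13`, `x ^ k 13 ↦ x ^ (k + j) 4` does not extend. -/
def exB (p : ℕ → Bool) (n : ℕ) : Bool := Nat.rec false (fun k ih => Bool.rec ih true (p k)) n

theorem exB_spec {p : ℕ → Bool} {n : ℕ} (h : exB p n = true) : ∃ k < n, p k = true := by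
  induction n with
  | zero => exact absurd h (by simp [exB])
  | succ n ih =>
    have h1 : (Bool.rec (exB p n) true (p n) : Bool) = true := h
    cases hb : p n with
    | false =>
      rw [hb] at h1
      obtain ⟨k, hk, hk'⟩ := ih h1
      exact ⟨k, hk.trans n.lt_succ_self, hk'⟩
    | true => exact ⟨n, n.lt_succ_self, hb⟩

def bad (j w k : ℕ) : Bool := Bool.rec true (Bool.rec true false
  (Nat.beq (bitM 100 adjA w (tx (Nat.add k j) 4)) (bitM 100 adjA 0 (tx k 13))))
  (Nat.beq (bitM 100 adjA w (tx k 13)) (bitM 100 adjA 0 (tx k 4)))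

theorem bad_spec {j w k : ℕ} (h : bad j w k = true) :
    bitM 100 adjA w (tx k 13) ≠ bitM 100 adjA 0 (tx k 4) ∨
    bitM 100 adjA w (tx (k + j) 4) ≠ bitM 100 adjA 0 (tx k 13) := by
  unfold bad at h
  cases hb : Nat.beq (bitM 100 adjA w (tx k 13)) (bitM 100 adjA 0 (tx k 4)) with
  | false => exact Or.inl (Nat.ne_of_beq_eq_false hb)
  | true =>
    rw [hb] at h
    cases hc : Nat.beq (bitM 100 adjA w (tx (Nat.add k j) 4)) (bitM 100 adjA 0 (tx k 13)) with
    | false => exact Or.inr (Nat.ne_of_beq_eq_false hc)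
    | true =>
      rw [hc] at h
      exact absurd h (by simp)

theorem chk_swap : allB (fun j => allB (fun w => exB (bad j w) 11) 100) 11 = true := by decide +kernel

section

variable {g : Perm (Fin 100)} (hg : g ∈ autG 100 adjA) (hc : g * φ x = φ x * g)

include hc in
theorem map_pow' (k : ℕ) (i : Fin 100) : g (((φ x) ^ k) i) = ((φ x) ^ k) (g i) := by
  have h : g * (φ x) ^ k = (φ x) ^ k * g := (Commute.pow_right (show Commute g (φ x) from hc) k)
  rw [← Perm.mul_apply, h, Perm.mul_apply]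

include hc in
theorem g_94 : g 94 = 94 := by
  apply Fin.ext
  apply chk_fix _ (g 94).2
  have h1 := map_pow' hc 1 94
  have h2 : ((φ x) ^ 1) (94 : Fin 100) = 94 := Fin.ext (by rw [val_pow]; exact chk_94)
  rw [h2] at h1
  have h3 := congrArg Fin.val h1
  rw [val_pow] at h3
  exact h3.symm

include hg hc in
theorem g_nb {i : Fin 100} (hi : bitM 100 adjA 94 i = 1) : ∃ k < 11, g i = ((φ x) ^ k) 4 ∨ g i = ((φ x) ^ k) 13 := by
  have h1 := mem_autG.1 hg 94 i
  rw [g_94 hc] at h1
  obtain ⟨k, hk, h⟩ := chk_nb (g i) (g i).2 (by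
    have e : ((94 : Fin 100) : ℕ) = 94 := rfl
    rw [e] at h1
    rw [h1, hi])
  refine ⟨k, hk, ?_⟩
  rcases h with h | h
  · left; apply Fin.ext; rw [h, val_pow]; rfl
  · right; apply Fin.ext; rw [h, val_pow]; rfl

include hg hc in
theorem eq_one_of_fix (h4 : g 4 = 4) : g = 1 := by
  have h0 : Fixes g L0 := by
    intro i hi
    obtain ⟨hi', h⟩ := chk_L0 i hi
    refine ⟨hi', ?_⟩
    rcases h with rfl | ⟨k, hk, rfl⟩
    · exact g_94 hc
    · have e : (⟨tx k 4, hi'⟩ : Fin 100) = ((φ x) ^ k) 4 := Fin.ext (by rw [val_pow]; rfl)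
      rw [e, map_pow' hc, h4]
  have h1 := h0.step hg chkU0 chk_L1
  have h2 := h1.step hg chkU1 (by simp)
  ext i
  obtain ⟨_, h⟩ := h2 i (by simp)
  exact congrArg Fin.val h

include hg hc in
theorem ne_of_swap (h4 : g 4 = 13) : False := by
  obtain ⟨j, hj, h⟩ := g_nb hg hc (i := 13) chk_13
  rcases h with h | h
  · obtain ⟨k, _, hk⟩ := exB_spec ((allB_iff _ _).1 ((allB_iff _ _).1 chk_swap j hj) (g 0) (g 0).2)
    rcases bad_spec hk with hk | hk
    · apply hk
      have h1 := mem_autG.1 hg 0 (((φ x) ^ k) 4)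
      rw [map_pow' hc, h4, val_pow, val_pow] at h1
      exact h1
    · apply hk
      have h1 := mem_autG.1 hg 0 (((φ x) ^ k) 13)
      rw [map_pow' hc, h, val_pow, val_pow, val_pow] at h1
      rw [tx_add]
      exact h1
  · rw [← h4, ← map_pow' hc, g.injective.eq_iff] at h
    apply chk_ne j hj
    have h1 := congrArg Fin.val h
    rw [val_pow, h4] at h1
    exact h1.symm

end

/-- **The centraliser of `x`** -/
theorem mem_of_comm {u : H0} (h : u * x = x * u) : ∃ k < 11, u = x ^ k ∨ u = x ^ k * τ := by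
  have hc : φ u * φ x = φ x * φ u := by rw [← map_mul, h, map_mul]
  have hg : φ u ∈ autG 100 adjA := range_le ⟨u, rfl⟩
  obtain ⟨k, hk, hk'⟩ := g_nb hg hc (i := 4) chk_4
  have hc2 : φ ((x ^ k)⁻¹ * u) * φ x = φ x * φ ((x ^ k)⁻¹ * u) := by
    rw [← map_mul, ← map_mul]
    congr 1
    have h1 : Commute x u := h.symm
    have h2 : Commute x ((x ^ k)⁻¹) := (Commute.refl x).pow_right k |>.inv_right
    exact (h2.mul_right h1).eq.symm
  have hg2 : φ ((x ^ k)⁻¹ * u) ∈ autG 100 adjA := range_le ⟨_, rfl⟩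
  have e : ∀ i : Fin 100, φ ((x ^ k)⁻¹ * u) i = ((φ x) ^ k)⁻¹ (φ u i) := by
    intro i
    rw [map_mul, map_inv, map_pow, Perm.mul_apply]
  rcases hk' with hk' | hk'
  · have h1 := eq_one_of_fix hg2 hc2 (by rw [e, hk']; exact Equiv.symm_apply_apply _ _)
    refine ⟨k, hk, ?_⟩
    rcases φ_eq_one_iff.1 h1 with h2 | h2
    · left; rw [inv_mul_eq_one] at h2; exact h2.symm
    · right; rw [inv_mul_eq_iff_eq_mul] at h2; exact h2
  · exact (ne_of_swap hg2 hc2 (by rw [e, hk']; exact Equiv.symm_apply_apply _ _)).elim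

end

end Cfsg.Agent.H710.Spor.HNCent
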