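import Cfsg.Agent.H710.Spor.HN
import Cfsg.Agent.H710.Spor.HNCent
import Cfsg.Agent.H710.TwoP
import Cfsg.Agent.H419.Row
import Cfsg.Agent.HN.A12Group
import Cfsg.Agent.HN.Central
import Cfsg.Agent.KFacts.HN.Aut0

/-!
# A vanishing element of order 22 of the Harada–Norton group (helper710)

`evMix` : `EvMix HN`.  The element `w` of order 22 has centraliser `⟨w⟩` and `HN` has at least 23 classes.
-/

set_option autoImplicit false
set_option maxRecDepth 100000

namespace Cfsg.Agent.H710.Spor.HNMix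

open Cfsg Subgroup Equiv Cfsg.Agent.H713 Cfsg.Agent.H710.VanCount Cfsg.Agent.H710.TwoP
open Cfsg.Agent.HN.Pres Cfsg.Agent.HN.H0Basic Cfsg.Agent.H665.NoPQ

universe u v

/-! ### orders of elements of the alternating group of degree 12 -/

theorem exists_order (σ : Perm (Fin 12)) (n : ℕ) (hn : 0 < n) (hs : Perm.sign σ = 1) (h1 : σ ^ n = 1)
    (h2 : ∀ m < n, 0 < m → m ∣ n → σ ^ m ≠ 1) : ∃ g : alternatingGroup (Fin 12), orderOf g = n := by
  refine ⟨⟨σ, Perm.mem_alternatingGroup.2 hs⟩, ?_⟩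
  rw [Subgroup.orderOf_mk]
  have hd : orderOf σ ∣ n := orderOf_dvd_of_pow_eq_one h1
  by_contra hne
  exact h2 _ (lt_of_le_of_ne (Nat.le_of_dvd hn hd) hne) (orderOf_pos σ) hd (pow_orderOf_eq_one σ)

theorem o1 : ∃ g : alternatingGroup (Fin 12), orderOf g = 1 := ⟨1, orderOf_one⟩
theorem o2 : ∃ g : alternatingGroup (Fin 12), orderOf g = 2 := exists_order (c[0,1] * c[2,3]) 2
  (by norm_num) (by decide +kernel) (by decide +kernel) (by decide +kernel)
theorem o3 : ∃ g : alternatingGroup (Fin 12), orderOf g = 3 := exists_order (c[0,1,2]) 3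
  (by norm_num) (by decide +kernel) (by decide +kernel) (by decide +kernel)
theorem o4 : ∃ g : alternatingGroup (Fin 12), orderOf g = 4 := exists_order (c[0,1,2,3] * c[4,5]) 4
  (by norm_num) (by decide +kernel) (by decide +kernel) (by decide +kernel)
theorem o5 : ∃ g : alternatingGroup (Fin 12), orderOf g = 5 := exists_order (c[0,1,2,3,4]) 5
  (by norm_num) (by decide +kernel) (by decide +kernel) (by decide +kernel)
theorem o6 : ∃ g : alternatingGroup (Fin 12), orderOf g = 6 := exists_order (c[0,1,2] * c[3,4] * c[5,6]) 6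
  (by norm_num) (by decide +kernel) (by decide +kernel) (by decide +kernel)
theorem o7 : ∃ g : alternatingGroup (Fin 12), orderOf g = 7 := exists_order (c[0,1,2,3,4,5,6]) 7
  (by norm_num) (by decide +kernel) (by decide +kernel) (by decide +kernel)
theorem o8 : ∃ g : alternatingGroup (Fin 12), orderOf g = 8 :=
  exists_order (c[0,1,2,3,4,5,6,7] * c[8,9]) 8
  (by norm_num) (by decide +kernel) (by decide +kernel) (by decide +kernel)
theorem o9 : ∃ g : alternatingGroup (Fin 12), orderOf g = 9 := exists_order (c[0,1,2,3,4,5,6,7,8]) 9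
  (by norm_num) (by decide +kernel) (by decide +kernel) (by decide +kernel)
theorem o10 : ∃ g : alternatingGroup (Fin 12), orderOf g = 10 :=
  exists_order (c[0,1,2,3,4] * c[5,6] * c[7,8]) 10
  (by norm_num) (by decide +kernel) (by decide +kernel) (by decide +kernel)
theorem o11 : ∃ g : alternatingGroup (Fin 12), orderOf g = 11 :=
  exists_order (c[0,1,2,3,4,5,6,7,8,9,10]) 11
  (by norm_num) (by decide +kernel) (by decide +kernel) (by decide +kernel)
theorem o12 : ∃ g : alternatingGroup (Fin 12), orderOf g = 12 :=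
  exists_order (c[0,1,2,3] * c[4,5] * c[6,7,8]) 12
  (by norm_num) (by decide +kernel) (by decide +kernel) (by decide +kernel)
theorem o14 : ∃ g : alternatingGroup (Fin 12), orderOf g = 14 :=
  exists_order (c[0,1,2,3,4,5,6] * c[7,8] * c[9,10]) 14
  (by norm_num) (by decide +kernel) (by decide +kernel) (by decide +kernel)
theorem o15 : ∃ g : alternatingGroup (Fin 12), orderOf g = 15 :=
  exists_order (c[0,1,2,3,4] * c[5,6,7]) 15
  (by norm_num) (by decide +kernel) (by decide +kernel) (by decide +kernel)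
theorem o20 : ∃ g : alternatingGroup (Fin 12), orderOf g = 20 :=
  exists_order (c[0,1,2,3,4] * c[5,6,7,8] * c[9,10]) 20
  (by norm_num) (by decide +kernel) (by decide +kernel) (by decide +kernel)
theorem o21 : ∃ g : alternatingGroup (Fin 12), orderOf g = 21 :=
  exists_order (c[0,1,2,3,4,5,6] * c[7,8,9]) 21
  (by norm_num) (by decide +kernel) (by decide +kernel) (by decide +kernel)
theorem o30 : ∃ g : alternatingGroup (Fin 12), orderOf g = 30 :=
  exists_order (c[0,1,2,3,4] * c[5,6,7] * c[8,9] * c[10,11]) 30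
  (by norm_num) (by decide +kernel) (by decide +kernel) (by decide +kernel)
theorem o35 : ∃ g : alternatingGroup (Fin 12), orderOf g = 35 :=
  exists_order (c[0,1,2,3,4,5,6] * c[7,8,9,10,11]) 35
  (by norm_num) (by decide +kernel) (by decide +kernel) (by decide +kernel)

/-- orders of elements of `A12` -/
def ordA : Finset ℕ := {1, 2, 3, 4, 5, 6, 7, 8, 9, 10, 11, 12, 14, 15, 20, 21, 30, 35}

theorem exists_ordA : ∀ n ∈ ordA, ∃ g : alternatingGroup (Fin 12), orderOf g = n := by
  intro n hn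
  simp only [ordA, Finset.mem_insert, Finset.mem_singleton] at hn
  rcases hn with rfl | rfl | rfl | rfl | rfl | rfl | rfl | rfl | rfl | rfl | rfl | rfl | rfl | rfl | rfl |
    rfl | rfl | rfl
  exacts [o1, o2, o3, o4, o5, o6, o7, o8, o9, o10, o11, o12, o14, o15, o20, o21, o30, o35]

theorem exists_hn : ∀ n ∈ ordA, ∃ g : Cfsg.Spor.HN, orderOf g = n := by
  intro n hn
  have := Cfsg.Agent.H710.Spor.HN.isSimple_hn
  obtain ⟨K, ⟨e⟩⟩ := Cfsg.Agent.HN.A12Group.exists_alternating
  obtain ⟨g, hg⟩ := exists_ordA n hn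
  exact ⟨(e.symm g : K), by rw [Subgroup.orderOf_coe, MulEquiv.orderOf_eq, hg]⟩

/-! ### the element of order 22 -/

/-- the embedding of `2.HS.2` -/
noncomputable abbrev ψ : H0 →* Cfsg.Spor.HN := Cfsg.Agent.HN.NormalH.ψ

theorem ψ_inj : Function.Injective ψ := Cfsg.Agent.HN.TwoClasses.ψ_inj

/-- the element of order 11 -/
noncomputable abbrev xx : H0 := HNCent.x

theorem xx_ne : xx ≠ 1 := by
  intro h
  have h1 := HNCent.val_pow 1 4
  have h2 : HNCent.x = 1 := h
  rw [h2, map_one, one_pow] at h1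
  exact absurd h1 (by decide +kernel)

instance fact11 : Fact (Nat.Prime 11) := ⟨by norm_num⟩

theorem orderOf_ψx : orderOf (ψ xx) = 11 := by
  rw [orderOf_injective ψ ψ_inj]
  exact orderOf_eq_prime HNCent.x_pow xx_ne

theorem orderOf_ψτ : orderOf (ψ τ) = 2 := Cfsg.Agent.HN.TwoClasses.orderOf_ψτ

theorem comm_xτ : Commute (ψ xx) (ψ τ) := by
  have h : Commute xx τ := Cfsg.Agent.HN.H0Basic.τ_comm xx
  exact h.map ψ

theorem card_cent_w : Nat.card (centralizer ({ψ xx * ψ τ} : Set Cfsg.Spor.HN)) ≤ 2 * 11 := by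
  have hf : ∀ g : centralizer ({ψ xx * ψ τ} : Set Cfsg.Spor.HN), ∃ i : Fin 11 × Bool,
      (g : Cfsg.Spor.HN) = ψ (xx ^ (i.1 : ℕ) * (if i.2 then τ else 1)) := by
    rintro ⟨g, hg⟩
    have hg1 : Commute g (ψ xx * ψ τ) := mem_centralizer_singleton_iff.1 hg
    have hg2 : Commute g (ψ τ) := by
      have h := hg1.pow_right 11
      rwa [xt_pow (by norm_num) orderOf_ψx orderOf_ψτ comm_xτ] at h
    have hg3 : g ∈ centralizer ({ψ τ} : Set Cfsg.Spor.HN) := mem_centralizer_singleton_iff.2 hg2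
    rw [Cfsg.Agent.KFacts.HN.Classes.centralizer_τ, ← Cfsg.Agent.HN.NormalH.range_ψ] at hg3
    obtain ⟨u, rfl⟩ := hg3
    have h4 : u * (xx * τ) = xx * τ * u := by
      apply ψ_inj
      have h5 : ψ u * (ψ xx * ψ τ) = ψ xx * ψ τ * ψ u := hg1
      rw [map_mul, map_mul, map_mul, map_mul]
      exact h5
    have h6 : u * xx = xx * u := by
      have h7 : u * xx * τ = xx * u * τ := by
        rw [mul_assoc, h4, mul_assoc, mul_assoc, Cfsg.Agent.HN.H0Basic.τ_comm u]
      exact mul_right_cancel h7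
    obtain ⟨k, hk, h8 | h8⟩ := HNCent.mem_of_comm h6
    · exact ⟨(⟨k, hk⟩, false), (congrArg ψ h8).trans (by simp)⟩
    · exact ⟨(⟨k, hk⟩, true), (congrArg ψ h8).trans (by simp)⟩
  choose f hf using hf
  have hinj : Function.Injective f := fun a b hab => Subtype.ext (by rw [hf a, hf b, hab])
  have h := Nat.card_le_card_of_injective f hinj
  simpa using h

/-! ### the number of classes -/

theorem pair2 : ∃ g h : Cfsg.Spor.HN, orderOf g = 2 ∧ orderOf h = 2 ∧ ¬ IsConj g h := by
  obtain ⟨s, t, hs, ht, hne⟩ := Cfsg.Agent.H710.Spor.HN.exists_cards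
  exact ⟨s, t, hs, ht, fun h => hne (Cfsg.Agent.SigZeroHN.card_centralizer_conj h)⟩

theorem order_four {G : Type*} [Group G] {g z : G} (h : g * g = z) (hz : z * z = 1) (hz1 : z ≠ 1) :
    orderOf g = 4 := by
  have h1 : g ^ 2 = z := by rw [pow_two, h]
  have h2 := orderOf_eq_prime_pow (p := 2) (n := 1) (x := g) (by rw [pow_one, h1]; exact hz1)
    (by
      have : (2 : ℕ) ^ (1 + 1) = 2 * 2 := by norm_num
      rw [this, pow_mul, h1, pow_two, hz])
  rw [h2]
  norm_num

open Cfsg.Agent.HN.XWords Cfsg.Agent.HN.XStruct Cfsg.Agent.KFacts.HN in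
theorem pair4 : ∃ g h : Cfsg.Spor.HN, orderOf g = 4 ∧ orderOf h = 4 ∧ ¬ IsConj g h := by
  have h1 : ψ gx * ψ gx = ψ τ := by
    rw [← map_mul, ← pow_two]
    rfl
  have h2 := base_F false
  refine ⟨ψ gx, r Q 12 * sgn0 false, order_four h1 ?_ ?_, order_four h2 W0_sq W0_ne, ?_⟩
  · rw [← map_mul, Cfsg.Agent.HN.H0Basic.τ_mul_τ, map_one]
  · intro h
    have h3 := orderOf_ψτ
    rw [h, orderOf_one] at h3
    omega
  · intro h
    apply Classes.not_isConj
    obtain ⟨c, hc⟩ := isConj_iff.1 h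
    refine isConj_iff.2 ⟨c, ?_⟩
    change c * ψ τ * c⁻¹ = W0
    rw [← h1, ← h2, ← hc]
    group

instance fact19 : Fact (Nat.Prime 19) := ⟨by norm_num⟩

theorem fac19 : (Nat.card Cfsg.Spor.HN).factorization 19 = 1 := by
  rw [Cfsg.Agent.H710.Spor.HN.card_hn]
  exact factorization_eq_one (by norm_num) (by norm_num)

theorem fac11 : (Nat.card Cfsg.Spor.HN).factorization 11 = 1 := by
  rw [Cfsg.Agent.H710.Spor.HN.card_hn]
  exact factorization_eq_one (by norm_num) (by norm_num)

/-- the orders in use -/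
def ordB : Finset ℕ := {1, 2, 3, 4, 5, 6, 7, 8, 9, 10, 11, 12, 14, 15, 20, 21, 30, 35, 22, 19}

theorem exists_ordB : ∀ n ∈ ordB, ∃ g : Cfsg.Spor.HN, orderOf g = n := by
  have := Cfsg.Agent.H710.Spor.HN.finite_hn
  intro n hn
  by_cases h : n ∈ ordA
  · exact exists_hn n h
  have h2 : n = 22 ∨ n = 19 := by
    simp only [ordB, ordA, Finset.mem_insert, Finset.mem_singleton] at hn h
    omega
  rcases h2 with rfl | rfl
  · refine ⟨ψ xx * ψ τ, ?_⟩
    rw [orderOf_xt (p := 11) (by norm_num) orderOf_ψx orderOf_ψτ comm_xτ]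
  · exact exists_prime_orderOf_dvd_card' 19 (by rw [Cfsg.Agent.H710.Spor.HN.card_hn]; norm_num)

theorem card_conjClasses : 23 ≤ Nat.card (ConjClasses Cfsg.Spor.HN) := by
  have := Cfsg.Agent.H710.Spor.HN.finite_hn
  obtain ⟨y, hy⟩ := exists_prime_orderOf_dvd_card' (G := Cfsg.Spor.HN) 19
    (by rw [Cfsg.Agent.H710.Spor.HN.card_hn]; norm_num)
  have h19 : 19 ∣ Nat.card (centralizer ({y} : Set Cfsg.Spor.HN)) := by
    have h1 : zpowers y ≤ centralizer ({y} : Set Cfsg.Spor.HN) := by
      rw [zpowers_le, mem_centralizer_singleton_iff]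
    have h2 := Subgroup.card_dvd_of_le h1
    rwa [Nat.card_zpowers, hy] at h2
  obtain ⟨c, hc⟩ := h19
  by_cases hc1 : c = 1
  · subst hc1
    have h1 : ∃ m : ZMod 19, m ≠ 0 ∧ ¬ IsConj y (y ^ m.val) := by
      by_contra hcon
      push Not at hcon
      have h2 := Cfsg.Agent.H710.OutVan.dvd_of_conj fac19 hy (by rw [hc]) hcon
      rw [Cfsg.Agent.H710.Spor.HN.card_hn] at h2
      norm_num at h2
    obtain ⟨m, hm0, hm⟩ := h1
    have h3 : orderOf (y ^ m.val) = 19 := by
      rw [Nat.Coprime.orderOf_pow, hy]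
      rw [hy]
      have h4 : m.val < 19 := m.val_lt
      have h5 : m.val ≠ 0 := fun h => hm0 ((ZMod.val_eq_zero m).1 h)
      exact Nat.coprime_of_lt_prime h5 h4 (by norm_num)
    have h4 := le_card_conjClasses_two (G := Cfsg.Spor.HN) ordB {2, 4, 19} exists_ordB (by
      intro n hn
      simp only [Finset.mem_insert, Finset.mem_singleton] at hn
      rcases hn with rfl | rfl | rfl
      · exact pair2
      · exact pair4
      · exact ⟨y, _, hy, h3, hm⟩)
    have h5 : ordB.card + ({2, 4, 19} : Finset ℕ).card = 23 := by decide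
    omega
  · obtain ⟨r, hr, hrc⟩ := Nat.exists_prime_and_dvd hc1
    have := Fact.mk hr
    obtain ⟨z, hz⟩ := exists_prime_orderOf_dvd_card' (G := centralizer ({y} : Set Cfsg.Spor.HN)) r
      (hrc.trans (Dvd.intro_left _ hc.symm))
    have hz' : orderOf (z : Cfsg.Spor.HN) = r := by rw [Subgroup.orderOf_coe, hz]
    have hyz : Commute y (z : Cfsg.Spor.HN) := (mem_centralizer_singleton_iff.1 z.2).symm
    have hr19 : r ≠ 19 := by
      rintro rfl
      obtain ⟨d, rfl⟩ := hrc
      have h1 := (centralizer ({y} : Set Cfsg.Spor.HN)).card_subgroup_dvd_card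
      rw [hc, Cfsg.Agent.H710.Spor.HN.card_hn, ← mul_assoc] at h1
      have h2 := (Dvd.intro _ rfl : 19 * 19 ∣ 19 * 19 * d).trans h1
      norm_num at h2
    have hr2 : r ≠ 2 := by
      rintro rfl
      have h1 : zpowers y ≤ centralizer ({(z : Cfsg.Spor.HN)} : Set Cfsg.Spor.HN) := by
        rw [zpowers_le, mem_centralizer_singleton_iff]
        exact hyz.eq
      have h2 := Subgroup.card_dvd_of_le h1
      rw [Nat.card_zpowers, hy] at h2
      rcases Cfsg.Agent.SigZeroHN.card_centralizer_cases hz' with h | h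
      · rw [h.2] at h2; norm_num at h2
      · rw [h.2] at h2; norm_num at h2
    have h3 : orderOf (y * (z : Cfsg.Spor.HN)) = 19 * r := by
      rw [hyz.orderOf_mul_eq_mul_orderOf_of_coprime, hy, hz']
      rw [hy, hz']
      exact (Nat.coprime_primes (by norm_num) hr).2 (Ne.symm hr19)
    have h3r : 3 ≤ r := by
      have := hr.two_le
      omega
    have hnot : 19 * r ∉ ordB := by
      intro h
      simp only [ordB, Finset.mem_insert, Finset.mem_singleton] at h
      omega
    have h4 := le_card_conjClasses_two (G := Cfsg.Spor.HN) (insert (19 * r) ordB) {2, 4} (by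
      intro n hn
      rw [Finset.mem_insert] at hn
      rcases hn with rfl | hn
      · exact ⟨_, h3⟩
      · exact exists_ordB n hn) (by
      intro n hn
      simp only [Finset.mem_insert, Finset.mem_singleton] at hn
      rcases hn with rfl | rfl
      · exact pair2
      · exact pair4)
    rw [Finset.card_insert_of_notMem hnot] at h4
    have h5 : ordB.card + ({2, 4} : Finset ℕ).card = 22 := by decide
    omega

/-- The element of order 22 is a vanishing element for all automorphisms. -/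
theorem vz : VZ Cfsg.Spor.HN (ψ xx * ψ τ) := by
  have := Cfsg.Agent.H710.Spor.HN.finite_hn
  exact vz_of_two_p (p := 11) (by norm_num) fac11 orderOf_ψx orderOf_ψτ comm_xτ card_cent_w
    (lt_of_lt_of_le (by norm_num) card_conjClasses)

theorem evMix' : Cfsg.Agent.H419.Row.EvMix Cfsg.Spor.HN := by
  have := Cfsg.Agent.H710.Spor.HN.finite_hn
  refine Cfsg.Agent.H419.Row.evMix_of_order vz (p := 11) (by norm_num) (by norm_num) ?_
  rw [orderOf_xt (p := 11) (by norm_num) orderOf_ψx orderOf_ψτ comm_xτ]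

/-- **`EvMix` for the Harada–Norton group.** -/
theorem evMix {S : Type u} [Group S] (h : Spor.IsoHN S) : Cfsg.Agent.H419.Row.EvMix S := by
  obtain ⟨e⟩ := h
  exact Cfsg.Agent.H419.Row.EvMix.mulEquiv e.symm evMix'

end Cfsg.Agent.H710.Spor.HNMix
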