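import Cfsg.Agent.H710.OutVan
import Cfsg.Agent.SigZeroHN.Main
import Cfsg.Agent.HN.TwoClasses
import Cfsg.Agent.S1701
import Cfsg.Agent.S2082

/-!
# The row of the Harada–Norton group for S4943 (helper710)

`HN` has a character of 19-defect zero, `#HN / 19 = 9 mod 19` and `|Out(HN)| = 2`.
-/

set_option autoImplicit false

namespace Cfsg.Agent.H710.Spor.HN

open Cfsg Subgroup Cfsg.Agent.H713 Cfsg.Agent.H710.OutVan Cfsg.Agent.H665.NoPQ

universe u v

theorem card_hn : Nat.card Cfsg.Spor.HN = 273030912000000 := Cfsg.Agent.S1701.result.2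

theorem finite_hn : Finite Cfsg.Spor.HN := Nat.finite_of_card_ne_zero (by rw [card_hn]; norm_num)

theorem isSimple_hn : IsSimpleGroup Cfsg.Spor.HN := Cfsg.Agent.S1701.result.1

theorem exists_cards : ∃ s t : Cfsg.Spor.HN, orderOf s = 2 ∧ orderOf t = 2 ∧
    Nat.card (centralizer ({s} : Set Cfsg.Spor.HN)) ≠ Nat.card (centralizer ({t} : Set Cfsg.Spor.HN)) := by
  have := finite_hn
  have : Fact (Nat.Prime 2) := ⟨Nat.prime_two⟩
  obtain ⟨u, hu, hd⟩ := exists_central_involution (G := Cfsg.Spor.HN) (by rw [card_hn]; norm_num)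
  refine ⟨_, u, Cfsg.Agent.HN.TwoClasses.orderOf_ψτ, hu, fun hc => ?_⟩
  have h1 := Subgroup.index_mul_card (centralizer ({u} : Set Cfsg.Spor.HN))
  rw [← hc, Cfsg.Agent.KFacts.HN.Classes.card_centralizer_τ, card_hn] at h1
  omega

theorem hasDZ_19 : HasDZ 19 Cfsg.Spor.HN := by
  have := finite_hn
  have : Fact (Nat.Prime 19) := ⟨by norm_num⟩
  obtain ⟨s, t, hs, ht, hne⟩ := exists_cards
  refine hasDZ_of_cards [177408000, 3686400] (fun u hu => ?_) ?_ hs ht hne
  · rcases Cfsg.Agent.SigZeroHN.card_centralizer_cases hu with h | h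
    · rw [h.2]; simp
    · rw [h.2]; simp
  · intro m hm
    fin_cases hm <;> norm_num

theorem row_hn' : Row.{u, 0} Cfsg.Spor.HN := by
  have := finite_hn
  have : Fact (Nat.Prime 19) := ⟨by norm_num⟩
  refine Row.of_half (p := 19) (q := 3) (by norm_num)
    (by rw [card_hn]; exact factorization_eq_one (by norm_num) (by norm_num)) hasDZ_19
    (card_mulAut_dvd (by rw [Cfsg.Agent.S2082.result])) ?_ (by decide) (by norm_num) (by norm_num) (by norm_num)
  rw [card_hn]
  norm_num

/-- **The row `HN` of S4943.** -/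
theorem row_hn {S : Type v} [Group S] (h : Spor.IsoHN S) : Row.{u, v} S := by
  obtain ⟨e⟩ := h
  exact Row.mulEquiv row_hn' e.symm

theorem dz_19 {S : Type u} [Group S] (h : Spor.IsoHN S) : HasDZ 19 S := by
  obtain ⟨e⟩ := h
  exact HasDZ.mulEquiv e.symm hasDZ_19

end Cfsg.Agent.H710.Spor.HN
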