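import Cfsg.Agent.H710.Spor.HeCent
import Cfsg.Agent.H710.VanCount

/-!
# The row of the Held group for S4943 (helper710)

`x8` and `x12` have orders 8 and 12, centralizers of orders at most 16 and 12; the Held group has at
least 18 classes; so irreducible characters vanish at `x8` and at `x12` and all their images under
automorphisms.
-/

set_option autoImplicit false
set_option Elab.async false

namespace Cfsg.Agent.H710.Spor.He

open Cfsg Cfsg.Spor Cfsg.Spor.He Cfsg.Agent.H713 Cfsg.Agent.SporadicB.HePerm Cfsg.Agent.KFacts.He.Words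
  Cfsg.Agent.KFacts.He.Hyp Cfsg.Agent.Held.Letters Cfsg.Agent.H710.VanCount
  Cfsg.Agent.SporadicRecognition.CosetCert Cfsg.Agent.H710.Spor.HeCent
open Cfsg.Agent.KFacts.He.Bound (z)

universe u v

instance : Finite Cfsg.Spor.He :=
  Nat.finite_of_card_ne_zero (by rw [Cfsg.Agent.KFacts.He.Classes.card_he]; norm_num)

/-- the value of a word -/
abbrev E (w : List ℕ) : Cfsg.Spor.He := ev (gy xr y1 y2) w

/-- a power of a word -/
def rep (n : ℕ) (w : List ℕ) : List ℕ := (List.replicate n w).flatten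

theorem E_rep (n : ℕ) (w : List ℕ) : E (rep n w) = E w ^ n := ev_flatten _ n w

theorem eqW_of_eq {u v : List ℕ} (h : E u = E v) : eqW u v = true := by
  have key : ∀ i : Fin 2058, im u i = im v i := by
    intro i
    rw [← im_spec, ← im_spec]
    exact congrArg (fun x => ((phi x i : Fin 2058) : ℕ)) h
  have h0 := key 0
  have h1 := key 1
  have h2 := key 32
  have h3 := key 8
  unfold eqW
  rw [show im u 0 = im v 0 from h0, show im u 1 = im v 1 from h1, show im u 32 = im v 32 from h2,
    show im u 8 = im v 8 from h3, Nat.beq_refl, Nat.beq_refl, Nat.beq_refl, Nat.beq_refl]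

theorem ne_of_eqW {u v : List ℕ} (h : eqW u v = false) : E u ≠ E v := fun h' => by
  rw [eqW_of_eq h'] at h
  exact absurd h (by simp)

/-- no power with exponent `m`, `0 < m < n + 1` is trivial -/
noncomputable def noPow (w : List ℕ) (n : ℕ) : Bool :=
  Nat.rec (motive := fun _ => Bool) true (fun m ih => Bool.rec ih false (eqW (rep (Nat.succ m) w) [])) n

theorem noPow_sound {w : List ℕ} {n : ℕ} (h : noPow w n = true) : ∀ m < n, E w ^ (m + 1) ≠ 1 := by
  induction n with
  | zero => intro m hm; omega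
  | succ n ih =>
    have h' : (Bool.rec (noPow w n) false (eqW (rep (Nat.succ n) w) []) : Bool) = true := h
    rcases ha : eqW (rep (Nat.succ n) w) [] with _ | _
    · rw [ha] at h'
      intro m hm
      rcases Nat.lt_or_ge m n with h1 | h1
      · exact ih h' m h1
      · have h2 : m = n := by omega
        subst h2
        rw [← E_rep]
        exact ne_of_eqW ha
    · rw [ha] at h'
      exact absurd (show false = true from h') (by simp)

/-- the word `w` has order `n + 1` -/
noncomputable def ordB (w : List ℕ) (n : ℕ) : Bool :=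
  Bool.rec false (noPow w n) (eqW (rep (Nat.succ n) w) [])

theorem orderOf_of_ordB {w : List ℕ} {n : ℕ} (h : ordB w n = true) : orderOf (E w) = n + 1 := by
  unfold ordB at h
  rcases ha : eqW (rep (Nat.succ n) w) [] with _ | _
  · rw [ha] at h
    exact absurd (show false = true from h) (by simp)
  · rw [ha] at h
    rw [orderOf_eq_iff (Nat.succ_pos n)]
    refine ⟨?_, fun m hm hm0 => ?_⟩
    · rw [← E_rep]
      exact weq ha
    · obtain ⟨k, rfl⟩ : ∃ k, m = k + 1 := ⟨m - 1, by omega⟩
      exact noPow_sound h k (by omega)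

theorem o1 : orderOf (E []) = 1 := orderOf_of_ordB (n := 0) (by decide +kernel)
theorem o2 : orderOf (E [3]) = 2 := orderOf_of_ordB (n := 1) (by decide +kernel)
theorem o2' : orderOf (E [0, 8]) = 2 := orderOf_of_ordB (n := 1) (by decide +kernel)
theorem o3 : orderOf (E [15]) = 3 := orderOf_of_ordB (n := 2) (by decide +kernel)
theorem o4 : orderOf (E [8, 2, 11]) = 4 := orderOf_of_ordB (n := 3) (by decide +kernel)
theorem o5 : orderOf (E [11, 13, 3, 4]) = 5 := orderOf_of_ordB (n := 4) (by decide +kernel)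
theorem o6 : orderOf (E [14, 13]) = 6 := orderOf_of_ordB (n := 5) (by decide +kernel)
theorem o7 : orderOf (E [5, 10, 11]) = 7 := orderOf_of_ordB (n := 6) (by decide +kernel)
theorem o8 : orderOf x8 = 8 := orderOf_of_ordB (n := 7) (by decide +kernel)
theorem o10 : orderOf (E [12, 11]) = 10 := orderOf_of_ordB (n := 9) (by decide +kernel)
theorem o12 : orderOf x12 = 12 := orderOf_of_ordB (n := 11) (by decide +kernel)
theorem o14 : orderOf (E [12, 11, 10, 6]) = 14 := orderOf_of_ordB (n := 13) (by decide +kernel)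
theorem o15 : orderOf (E [10, 14, 13]) = 15 := orderOf_of_ordB (n := 14) (by decide +kernel)
theorem o17 : orderOf (E [11, 10, 14, 8]) = 17 := orderOf_of_ordB (n := 16) (by decide +kernel)
theorem o21 : orderOf (E [14, 11, 10, 8]) = 21 := orderOf_of_ordB (n := 20) (by decide +kernel)

theorem z_eq : z = E [3] := by
  rw [E, ev_one]
  rfl

theorem v_eq : Cfsg.Agent.KFacts.He.Classes.v = E [0, 8] := rfl

/-- an element of order five commutes with `v` -/
theorem card_v : 5 ∣ Nat.card (Subgroup.centralizer ({E [0, 8]} : Set Cfsg.Spor.He)) := by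
  -- the element of order five
  set g : Cfsg.Spor.He := E [4, 10, 14, 0] * E [12, 11] ^ 2 * (E [4, 10, 14, 0])⁻¹ with hg
  have h2 : orderOf g = 5 := by
    rw [hg]
    have h3 : orderOf (E [12, 11] ^ 2) = 5 := by
      rw [orderOf_pow, o10]
      rfl
    rw [← h3]
    exact MulEquiv.orderOf_eq (MulAut.conj (E [4, 10, 14, 0])) (E [12, 11] ^ 2)
  have h3 : E [4, 10, 14, 0] * E [12, 11] ^ 5 * (E [4, 10, 14, 0])⁻¹ = E [0, 8] := by
    rw [mul_inv_eq_iff_eq_mul, ← E_rep]
    show ev _ _ * ev _ _ = ev _ _ * ev _ _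
    rw [← ev_append, ← ev_append]
    exact weq (by decide +kernel)
  have h4 : g ∈ Subgroup.centralizer ({E [0, 8]} : Set Cfsg.Spor.He) := by
    rw [Subgroup.mem_centralizer_singleton_iff, hg, ← h3]
    have h5 : E [12, 11] ^ 2 * E [12, 11] ^ 5 = E [12, 11] ^ 5 * E [12, 11] ^ 2 := by
      rw [← pow_add, ← pow_add]
    calc E [4, 10, 14, 0] * E [12, 11] ^ 2 * (E [4, 10, 14, 0])⁻¹ *
          (E [4, 10, 14, 0] * E [12, 11] ^ 5 * (E [4, 10, 14, 0])⁻¹)
        = E [4, 10, 14, 0] * (E [12, 11] ^ 2 * E [12, 11] ^ 5) * (E [4, 10, 14, 0])⁻¹ := by group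
      _ = E [4, 10, 14, 0] * (E [12, 11] ^ 5 * E [12, 11] ^ 2) * (E [4, 10, 14, 0])⁻¹ := by rw [h5]
      _ = _ := by group
  have h5 : orderOf g ∣ Nat.card (Subgroup.centralizer ({E [0, 8]} : Set Cfsg.Spor.He)) := by
    rw [← Subgroup.orderOf_mk g h4]
    exact orderOf_dvd_natCard _
  rwa [h2] at h5

theorem not_conj_z_v : ¬ IsConj z (E [0, 8]) := by
  intro hc
  have h1 := card_v
  rw [Cfsg.Agent.Blocks.SylowIn.card_centralizer_of_isConj hc,
    Cfsg.Agent.KFacts.He.Classes.card_centralizer] at h1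
  omega

/-- an element of order four whose square is conjugate to `v` -/
theorem sq_four : IsConj (E [8, 2, 11] ^ 2) (E [0, 8]) := by
  refine isConj_iff.2 ⟨E [13, 11, 10, 7], ?_⟩
  rw [mul_inv_eq_iff_eq_mul, ← E_rep]
  show ev _ _ * ev _ _ = ev _ _ * ev _ _
  rw [← ev_append, ← ev_append]
  exact weq (by decide +kernel)

/-- an element of order six whose cube is conjugate to `v` -/
theorem cube_six : IsConj (E [14, 13] ^ 3) (E [0, 8]) := by
  refine isConj_iff.2 ⟨E [4, 5, 10, 14, 11, 0], ?_⟩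
  rw [mul_inv_eq_iff_eq_mul, ← E_rep]
  show ev _ _ * ev _ _ = ev _ _ * ev _ _
  rw [← ev_append, ← ev_append]
  exact weq (by decide +kernel)

theorem card_classes : 17 ≤ Nat.card (ConjClasses Cfsg.Spor.He) := by
  have h := le_card_conjClasses_two (G := Cfsg.Spor.He)
    {1, 2, 3, 4, 5, 6, 7, 8, 10, 12, 14, 15, 17, 21} {2, 4, 6} ?_ ?_
  · exact h
  · intro n hn
    simp only [Finset.mem_insert, Finset.mem_singleton] at hn
    rcases hn with rfl | rfl | rfl | rfl | rfl | rfl | rfl | rfl | rfl | rfl | rfl | rfl | rfl | rfl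
    · exact ⟨_, o1⟩
    · exact ⟨_, o2⟩
    · exact ⟨_, o3⟩
    · exact ⟨_, o4⟩
    · exact ⟨_, o5⟩
    · exact ⟨_, o6⟩
    · exact ⟨_, o7⟩
    · exact ⟨_, o8⟩
    · exact ⟨_, o10⟩
    · exact ⟨_, o12⟩
    · exact ⟨_, o14⟩
    · exact ⟨_, o15⟩
    · exact ⟨_, o17⟩
    · exact ⟨_, o21⟩
  · intro n hn
    simp only [Finset.mem_insert, Finset.mem_singleton] at hn
    rcases hn with rfl | rfl | rfl
    · exact ⟨_, _, o2, o2', by rw [← z_eq]; exact not_conj_z_v⟩
    · refine ⟨x8 ^ 2, E [8, 2, 11], by rw [orderOf_pow, o8]; rfl, o4, fun h => not_conj_z_v ?_⟩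
      have h1 := h.pow 2
      rw [← pow_mul, x8_pow] at h1
      exact h1.trans sq_four
    · refine ⟨x12 ^ 2, E [14, 13], by rw [orderOf_pow, o12]; rfl, o6, fun h => not_conj_z_v ?_⟩
      have h1 := h.pow 3
      rw [← pow_mul, x12_pow] at h1
      exact h1.trans cube_six

/-- An automorphism maps `z` to a conjugate of `z`. -/
theorem exists_fix (α : MulAut Cfsg.Spor.He) : ∃ g : Cfsg.Spor.He, g * α z * g⁻¹ = z := by
  have hz : orderOf z = 2 := by rw [z_eq]; exact o2
  have h1 : orderOf (α z) = 2 := by rw [MulEquiv.orderOf_eq, hz]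
  obtain ⟨h2, h3⟩ := Cfsg.Agent.H713.orderOf_two h1
  rcases Cfsg.Agent.KFacts.He.Classes.two_classes h2 h3 with ⟨g, hg⟩ | ⟨g, hg⟩
  · refine ⟨g⁻¹, ?_⟩
    rw [← hg]
    group
  · -- the centralizers have different orders
    exfalso
    have hcard : Nat.card (Subgroup.centralizer ({α z} : Set Cfsg.Spor.He)) = 21504 := by
      have h4 : (Subgroup.centralizer ({z} : Set Cfsg.Spor.He)).map
          (α : Cfsg.Spor.He →* Cfsg.Spor.He) = Subgroup.centralizer ({α z} : Set Cfsg.Spor.He) := by
        ext x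
        simp only [Subgroup.mem_map, Subgroup.mem_centralizer_singleton_iff, MonoidHom.coe_coe]
        constructor
        · rintro ⟨y, hy, rfl⟩
          rw [← map_mul, hy, map_mul]
        · intro hx
          refine ⟨α.symm x, ?_, α.apply_symm_apply x⟩
          apply α.injective
          rw [map_mul, map_mul]
          simpa using hx
      rw [← h4, Subgroup.card_map_of_injective
        (show Function.Injective (α : Cfsg.Spor.He →* Cfsg.Spor.He) from α.injective)]
      exact Cfsg.Agent.KFacts.He.Classes.card_centralizer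
    have h5 := card_v
    rw [← v_eq, Cfsg.Agent.Blocks.SylowIn.card_centralizer_of_isConj
      (isConj_iff.2 ⟨g, hg⟩ : IsConj Cfsg.Agent.KFacts.He.Classes.v (α z)).symm, hcard] at h5
    omega

theorem vz8 : VZ Cfsg.Spor.He x8 := by
  refine vz_of_card x8 (lt_of_le_of_lt card_cent8 (lt_of_lt_of_le (by norm_num) card_classes)) ?_
  intro α
  refine ⟨1, ?_⟩
  rw [pow_one]
  obtain ⟨g, hg⟩ := exists_fix α
  have h1 : (g * α x8 * g⁻¹) ^ 4 = z := by
    rw [conj_pow, ← map_pow, x8_pow, hg]
  exact (conj8 h1).symm.trans (isConj_iff.2 ⟨g⁻¹, by group⟩)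

theorem vz12 : VZ Cfsg.Spor.He x12 := by
  refine vz_of_card x12 (lt_of_le_of_lt card_cent12 (lt_of_lt_of_le (by norm_num) card_classes)) ?_
  intro α
  refine ⟨1, ?_⟩
  rw [pow_one]
  obtain ⟨g, hg⟩ := exists_fix α
  have h1 : (g * α x12 * g⁻¹) ^ 6 = z := by
    rw [conj_pow, ← map_pow, x12_pow, hg]
  have h2 : (g * α x12 * g⁻¹) ^ 4 ≠ 1 := by
    rw [conj_pow, ← map_pow, Ne, conj_eq_one_iff]
    intro h
    exact x12_pow_four (α.injective (by rw [h, map_one]))
  exact (conj12 h1 h2).symm.trans (isConj_iff.2 ⟨g⁻¹, by group⟩)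

theorem row_he' : Row.{u, 0} Cfsg.Spor.He :=
  row_of_vz vz8 vz12 (by rw [o8, o12]; norm_num) (d := 4) (by norm_num)
    (by rw [o8]; norm_num) (by rw [o12]; norm_num)

theorem row_he {S : Type v} [Group S] (h : Spor.IsoHe S) : Row.{u, v} S := by
  obtain ⟨e⟩ := h
  exact Row.mulEquiv row_he' e.symm

end Cfsg.Agent.H710.Spor.He
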