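import Cfsg.Agent.H690.LieGood
import Cfsg.Agent.H419.Row
import Cfsg.Agent.H710.Spor.He
import Cfsg.Agent.H710.Spor.Ly

/-!
# `EvMix` and `Good` for the Held group and the Lyons group (helper710)
-/

set_option autoImplicit false

namespace Cfsg.Agent.H710.Spor.Good

open Cfsg Cfsg.Agent.H713 Cfsg.Agent.H710.VanCount

universe u

/-- A `VZ` element of order 12 in the Held group. -/
theorem exists_vz_he {K : Type u} [Group K] (h : Spor.IsoHe K) : ∃ x : K, VZ K x ∧ orderOf x = 12 := by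
  obtain ⟨e⟩ := h
  exact ⟨e.symm HeCent.x12, He.vz12.mulEquiv e.symm, by rw [MulEquiv.orderOf_eq, He.o12]⟩

theorem good_he {K : Type u} [Group K] (h : Spor.IsoHe K) : H690.LieGood.Good K := by
  obtain ⟨x, hx, ho⟩ := exists_vz_he h
  exact H690.LieGood.good_of_mixed hx (a := 2) (b := 3) (by norm_num) (by norm_num) (by norm_num)
    (by rw [ho]; norm_num) (by rw [ho]; norm_num)

theorem evMix_he {K : Type u} [Group K] (h : Spor.IsoHe K) : H419.Row.EvMix K := by
  obtain ⟨x, hx, ho⟩ := exists_vz_he h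
  exact ⟨x, hx, by rw [ho]; norm_num, 3, by norm_num, by norm_num, by rw [ho]; norm_num⟩

/-- A `VZ` element of order 18 in the Lyons group. -/
theorem exists_vz_ly {K : Type u} [Group K] (h : Spor.IsoLy K) : ∃ x : K, VZ K x ∧ orderOf x = 18 := by
  obtain ⟨e⟩ := h
  have hfin : Finite Cfsg.Spor.Ly := Cfsg.Agent.Ly.Setup.finite_ly
  obtain ⟨L⟩ := Cfsg.Agent.TypeM.FactsLy.exists_mt_ly
  obtain ⟨x, hx, hx'⟩ := Ly.exists18 L
  have hc := Ly.card_classes
  exact ⟨e.symm x, (vz_of_card_inner x (by omega) Cfsg.Agent.TypeM.OutLyFin.inner_ly).mulEquiv e.symm,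
    by rw [MulEquiv.orderOf_eq, hx]⟩

theorem good_ly {K : Type u} [Group K] (h : Spor.IsoLy K) : H690.LieGood.Good K := by
  obtain ⟨x, hx, ho⟩ := exists_vz_ly h
  exact H690.LieGood.good_of_mixed hx (a := 2) (b := 3) (by norm_num) (by norm_num) (by norm_num)
    (by rw [ho]; norm_num) (by rw [ho]; norm_num)

theorem evMix_ly {K : Type u} [Group K] (h : Spor.IsoLy K) : H419.Row.EvMix K := by
  obtain ⟨x, hx, ho⟩ := exists_vz_ly h
  exact ⟨x, hx, by rw [ho]; norm_num, 3, by norm_num, by norm_num, by rw [ho]; norm_num⟩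

end Cfsg.Agent.H710.Spor.Good
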