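import Cfsg.Agent.KFacts.He.Classes

/-!
# Elements of order 8 and 12 of the Held group whose power is the 2-central involution (helper710)

* `x8`, `x12` : `x8 ^ 4 = z`, `x12 ^ 6 = z`; `card_cent8 : #C(x8) ≤ 16`, `card_cent12 : #C(x12) ≤ 12`.
* `conj8` : every `g` with `g ^ 4 = z` is conjugate to `x8`; `conj12` : every `g` with `g ^ 6 = z` and
  `g ^ 4 ≠ 1` is conjugate to `x12`.
-/

set_option autoImplicit false
set_option Elab.async false

namespace Cfsg.Agent.H710.Spor.HeCent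

open Cfsg.Spor Cfsg.Spor.He Cfsg.Agent.SporadicB.HePerm Cfsg.Agent.KFacts.He.Words
  Cfsg.Agent.KFacts.He.Hyp Cfsg.Agent.KFacts.He.AutP Cfsg.Agent.Held.Letters Cfsg.Agent.Held.GenC
  Cfsg.Agent.KFacts.He.Bound Cfsg.Agent.Held.LetterVals
  Cfsg.Agent.SporadicRecognition.CosetCert
open Cfsg.Agent.Held.Code (Emb C X mu mu_assoc mu_e1 mu_lt exists_emb zc)
open Cfsg.Agent.Held.EmbSt (cx C_cx cx_sq evC C_evC ev_ph ph_e1)
open Cfsg.Agent.KFacts.He.Classes (cjc desc of_desc)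

/-! ### The descent -/

section

variable {G : Type*} [Group G] {z : G} {ph : ℕ → G}

theorem C_cjc {s c : ℕ} (hc : C c) : C (cjc s c) := ((C_cx s).mul hc).mul (C_cx s)

theorem ph_cx_sq (h : Emb z ph) (s : ℕ) : ph (cx s) * ph (cx s) = 1 := by
  rw [← h.mul (C_cx s) (C_cx s), cx_sq, ph_e1 h]

theorem ph_cjc (h : Emb z ph) {s c : ℕ} (hc : C c) :
    ph (cjc s c) = ph (cx s) * ph c * (ph (cx s))⁻¹ := by
  have hsi : (ph (cx s))⁻¹ = ph (cx s) := inv_eq_of_mul_eq_one_right (ph_cx_sq h s)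
  unfold cjc
  rw [h.mul ((C_cx s).mul hc) (C_cx s), h.mul (C_cx s) hc, hsi]

/-- the letters of `w` conjugate one after the other, the first letter first -/
noncomputable def cjw (w : List ℕ) (c : ℕ) : ℕ :=
  List.rec (motive := fun _ => ℕ → ℕ) (fun c => c)
    (fun s _ ih c => Nat.rec (motive := fun _ => ℕ) (ih 0) (fun j _ => ih (Nat.succ j)) (cjc s c)) w c

theorem cjw_nil (c : ℕ) : cjw [] c = c := rfl

theorem cjw_cons (s : ℕ) (w : List ℕ) (c : ℕ) : cjw (s :: w) c = cjw w (cjc s c) := by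
  show Nat.rec (motive := fun _ => ℕ) (cjw w 0) (fun j _ => cjw w (Nat.succ j)) (cjc s c) = _
  rcases cjc s c with _ | j <;> rfl

theorem ph_cjw (h : Emb z ph) (w : List ℕ) {c : ℕ} (hc : C c) :
    ∃ g : G, g * z = z * g ∧ g * ph c * g⁻¹ = ph (cjw w c) := by
  induction w generalizing c with
  | nil => exact ⟨1, by simp, by rw [cjw_nil]; simp⟩
  | cons s w ih =>
    obtain ⟨g, h1, h2⟩ := ih (C_cjc (s := s) hc)
    refine ⟨g * ph (cx s), ?_, ?_⟩
    · rw [mul_assoc, h.comm (C_cx s), ← mul_assoc, h1, mul_assoc]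
    · rw [cjw_cons, ← h2, ph_cjc h hc]
      group

/-- the descent to a list of minimal codes -/
theorem reach (h : Emb z ph) {c0 : ℕ} {T : ℕ → Prop} (hT : ∀ s c, C c → T c → T (cjc s c))
    {L : List (ℕ × List ℕ)} (hL : ∀ p ∈ L, cjw p.2 p.1 = c0)
    (hP : ∀ c, C c → T c → (∃ p ∈ L, p.1 = c) ∨ ∃ s, cjc s c < c) :
    ∀ n c : ℕ, c ≤ n → C c → T c → ∃ g : G, g * z = z * g ∧ g * ph c * g⁻¹ = ph c0 := by
  intro n
  induction n with
  | zero =>
    intro c hc hC hTc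
    rcases hP c hC hTc with ⟨p, hp, rfl⟩ | ⟨s, hs⟩
    · rw [← hL p hp]
      exact ph_cjw h p.2 hC
    · omega
  | succ n ih =>
    intro c hc hC hTc
    rcases hP c hC hTc with ⟨p, hp, rfl⟩ | ⟨s, hs⟩
    · rw [← hL p hp]
      exact ph_cjw h p.2 hC
    · obtain ⟨g, h1, h2⟩ := ih (cjc s c) (by omega) (C_cjc hC) (hT s c hC hTc)
      refine ⟨g * ph (cx s), ?_, ?_⟩
      · rw [mul_assoc, h.comm (C_cx s), ← mul_assoc, h1, mul_assoc]
      · rw [← h2, ph_cjc h hC]
        group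

end

/-! ### The certificates -/

/-- codes of the two elements -/
def c8 : ℕ := 17593311
def c12 : ℕ := 17179219

/-- the centralizers -/
def l8 : List ℕ := [17043521, 17043537, 17044041, 17044057, 17576131, 17576147, 17576651, 17576667,
  17060165, 17060181, 17060685, 17060701, 17592775, 17592791, 17593295, 17593311]
def l12 : List ℕ := [17043521, 17043537, 17044035, 17044051, 17178689, 17178705, 17179203, 17179219,
  16920641, 16920657, 16921155, 16921171]

/-- the minimal codes with conjugating words -/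
def m8 : List (ℕ × List ℕ) := [(16849669, [4, 10, 11, 1]), (16851907, [11, 10, 7, 11, 0]),
  (16851909, [11, 10, 7, 2, 11, 0]), (16863619, [7, 11, 10, 4, 1]), (16863623, [7, 11, 10, 4, 2]),
  (16911299, [11, 10, 11, 0]), (16933059, [11, 4, 1]), (17566083, [10, 9, 0])]
def m12 : List (ℕ × List ℕ) := [(16849733, [4, 0, 5, 10, 9]), (16851587, [11, 1, 10, 9, 5]),
  (16851589, [11, 10, 5, 9, 1]), (16863557, [5, 4, 10, 4, 0]), (16863559, [5, 4, 10, 0, 4]),
  (16863683, [11, 9, 5, 10, 0, 4]), (16863685, [11, 10, 11, 9, 4, 0]), (16865605, [4, 0, 5, 10]),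
  (16865607, [0, 5, 4, 10, 0]), (16911107, [8, 2, 11, 5, 10]), (16921155, [7, 0]),
  (16921159, [7, 1, 0]), (16921283, [7, 4, 2, 0]), (16921287, [11, 5, 1, 0]),
  (16937155, [7, 9, 4, 2, 0]), (17565897, [7, 5, 11, 10, 5, 4, 0]),
  (17565899, [7, 5, 11, 10, 5, 0, 4]), (17566147, [8, 11, 10, 5, 0, 4]),
  (17566409, [7, 5, 11, 10, 9, 5, 4]), (17566411, [7, 4, 8, 11, 10, 7, 4, 1])]

noncomputable def chkL (c0 : ℕ) (l : List (ℕ × List ℕ)) : Bool :=
  List.rec (motive := fun _ => Bool) true (fun p _ ih => Bool.rec false ih (Nat.beq (cjw p.2 p.1) c0)) l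

theorem chkL_sound {c0 : ℕ} {l : List (ℕ × List ℕ)} (h : chkL c0 l = true) :
    ∀ p ∈ l, cjw p.2 p.1 = c0 := by
  induction l with
  | nil => simp
  | cons a l ih =>
    have h' : (Bool.rec false (chkL c0 l) (Nat.beq (cjw a.2 a.1) c0) : Bool) = true := h
    rcases ha : Nat.beq (cjw a.2 a.1) c0 with _ | _
    · rw [ha] at h'; exact absurd (show false = true from h') (by simp)
    rw [ha] at h'
    intro p hp
    rcases List.mem_cons.mp hp with rfl | hp
    · exact Nat.eq_of_beq_eq_true ha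
    · exact ih h' p hp

theorem chk_m8 : chkL c8 m8 = true := by decide +kernel
theorem chk_m12 : chkL c12 m12 = true := by decide +kernel

theorem evC8 : evC [0, 4, 7, 9] = c8 := by decide +kernel
theorem evC12 : evC [0, 6, 7, 11] = c12 := by decide +kernel

theorem C8 : C c8 := by rw [← evC8]; exact C_evC _
theorem C12 : C c12 := by rw [← evC12]; exact C_evC _

noncomputable def sq (c : ℕ) : ℕ := mu c c

/-- all codes with fourth power `z` are on the list or not minimal -/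
noncomputable def P8 (c : ℕ) : Bool :=
  Bool.rec true (Bool.rec (desc c 12) true (memL c (m8.map Prod.fst)))
    (Nat.beq (mu (mu c c) (mu c c)) zc)

noncomputable def P12 (c : ℕ) : Bool :=
  Bool.rec true (Bool.rec (Bool.rec (desc c 12) true (memL c (m12.map Prod.fst))) true
    (Nat.beq (mu (mu c c) (mu c c)) Held.Code.e1))
    (Nat.beq (mu (mu c c) (mu (mu c c) (mu c c))) zc)

/-- the centralizers -/
noncomputable def Q (c0 : ℕ) (l : List ℕ) (c : ℕ) : Bool :=
  Bool.rec true (memL c l) (Nat.beq (mu c c0) (mu c0 c))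

theorem chkP8 : HeldType.Code.allC P8 = true := by decide +kernel
theorem chkP12 : HeldType.Code.allC P12 = true := by decide +kernel
theorem chkQ8 : HeldType.Code.allC (Q c8 l8) = true := by decide +kernel
theorem chkQ12 : HeldType.Code.allC (Q c12 l12) = true := by decide +kernel

theorem fourth_c8 : mu (mu c8 c8) (mu c8 c8) = zc := by decide +kernel
theorem sixth_c12 : mu (mu c12 c12) (mu (mu c12 c12) (mu c12 c12)) = zc := by decide +kernel
theorem fourth_c12 : mu (mu c12 c12) (mu c12 c12) ≠ Held.Code.e1 := by decide +kernel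

theorem cases8 {c : ℕ} (hc : C c) (h1 : mu (mu c c) (mu c c) = zc) :
    (∃ p ∈ m8, p.1 = c) ∨ ∃ s, cjc s c < c := by
  have h := HeldType.Code.of_allC chkP8 (good_of_C hc)
  unfold P8 at h
  rw [h1, Nat.beq_refl] at h
  rcases hm : memL c (m8.map Prod.fst) with _ | _
  · rw [hm] at h
    exact Or.inr (of_desc h)
  · left
    obtain ⟨p, hp, hpc⟩ := List.mem_map.1 (memL_iff hm)
    exact ⟨p, hp, hpc⟩

theorem cases12 {c : ℕ} (hc : C c) (h1 : mu (mu c c) (mu (mu c c) (mu c c)) = zc)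
    (h2 : mu (mu c c) (mu c c) ≠ Held.Code.e1) :
    (∃ p ∈ m12, p.1 = c) ∨ ∃ s, cjc s c < c := by
  have h := HeldType.Code.of_allC chkP12 (good_of_C hc)
  unfold P12 at h
  rw [h1, Nat.beq_refl] at h
  have h3 : Nat.beq (mu (mu c c) (mu c c)) Held.Code.e1 = false := by
    rcases hb : Nat.beq (mu (mu c c) (mu c c)) Held.Code.e1 with _ | _
    · rfl
    · exact absurd (Nat.eq_of_beq_eq_true hb) h2
  rw [h3] at h
  rcases hm : memL c (m12.map Prod.fst) with _ | _
  · rw [hm] at h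
    exact Or.inr (of_desc h)
  · left
    obtain ⟨p, hp, hpc⟩ := List.mem_map.1 (memL_iff hm)
    exact ⟨p, hp, hpc⟩

theorem mem_of_comm {c0 : ℕ} {l : List ℕ} (hQ : HeldType.Code.allC (Q c0 l) = true) {c : ℕ}
    (hc : C c) (h1 : mu c c0 = mu c0 c) : c ∈ l := by
  have h := HeldType.Code.of_allC hQ (good_of_C hc)
  unfold Q at h
  rw [h1, Nat.beq_refl] at h
  exact memL_iff h

/-! ### The Held group -/

/-- the two elements -/
def x8 : Cfsg.Spor.He := ev (gy xr y1 y2) [0, 4, 7, 9]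
def x12 : Cfsg.Spor.He := ev (gy xr y1 y2) [0, 6, 7, 11]

theorem card_le_of_list {c0 : ℕ} {l : List ℕ} (hQ : HeldType.Code.allC (Q c0 l) = true)
    (hC : C c0) {z : Cfsg.Spor.He} {ph : ℕ → Cfsg.Spor.He} (E : Emb z ph) {k : ℕ}
    (hk : (ph c0) ^ k = z) :
    Nat.card (Subgroup.centralizer ({ph c0} : Set Cfsg.Spor.He)) ≤ l.length := by
  classical
  have h1 : ((Subgroup.centralizer ({ph c0} : Set Cfsg.Spor.He) : Subgroup Cfsg.Spor.He) :
      Set Cfsg.Spor.He) ⊆ ((l.map ph).toFinset : Set Cfsg.Spor.He) := by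
    intro g hg
    have hg' : g * ph c0 = ph c0 * g := Subgroup.mem_centralizer_singleton_iff.1 hg
    have hgz : g * z = z * g := by
      rw [← hk]
      exact (Commute.pow_right (show Commute g (ph c0) from hg') k)
    obtain ⟨c, hc, rfl⟩ := E.surj g hgz
    have h2 : mu c c0 = mu c0 c := by
      apply E.inj (hc.mul hC) (hC.mul hc)
      rw [E.mul hc hC, E.mul hC hc, hg']
    simp only [Finset.mem_coe, List.mem_toFinset, List.mem_map]
    exact ⟨c, mem_of_comm hQ hc h2, rfl⟩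
  have h2 : Nat.card (Subgroup.centralizer ({ph c0} : Set Cfsg.Spor.He)) =
      ((Subgroup.centralizer ({ph c0} : Set Cfsg.Spor.He) : Subgroup Cfsg.Spor.He) :
        Set Cfsg.Spor.He).ncard := rfl
  rw [h2]
  refine (Set.ncard_le_ncard h1 (Finset.finite_toSet _)).trans ?_
  rw [Set.ncard_coe_finset]
  exact (List.toFinset_card_le _).trans (by rw [List.length_map])

theorem ph_word {ph : ℕ → Cfsg.Spor.He} (E : Emb z ph) (hph : ∀ n < 12, ph (cx n) = gx xr n)
    (w : List ℕ) (hw : ∀ l ∈ w, l < 12) : ph (evC w) = ev (gy xr y1 y2) w := by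
  rw [← ev_ph E]
  apply ev_congr
  intro l hl
  rw [gy_of_lt xr y1 y2 (hw l hl), Held.EmbSt.gx_ph E, hph l (hw l hl)]

theorem exists_ph : ∃ ph : ℕ → Cfsg.Spor.He, Emb z ph ∧ ph c8 = x8 ∧ ph c12 = x12 := by
  obtain ⟨ph, E, hph⟩ := Cfsg.Agent.KFacts.He.Classes.exists_ph
  refine ⟨ph, E, ?_, ?_⟩
  · rw [← evC8]
    exact ph_word E hph _ (by decide)
  · rw [← evC12]
    exact ph_word E hph _ (by decide)

theorem fourth {ph : ℕ → Cfsg.Spor.He} (E : Emb z ph) {c : ℕ} (hc : C c) :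
    ph (mu (mu c c) (mu c c)) = ph c ^ 4 := by
  rw [E.mul (hc.mul hc) (hc.mul hc), E.mul hc hc]
  simp only [pow_succ, pow_zero, one_mul, mul_assoc]

theorem sixth {ph : ℕ → Cfsg.Spor.He} (E : Emb z ph) {c : ℕ} (hc : C c) :
    ph (mu (mu c c) (mu (mu c c) (mu c c))) = ph c ^ 6 := by
  rw [E.mul (hc.mul hc) ((hc.mul hc).mul (hc.mul hc)), E.mul (hc.mul hc) (hc.mul hc), E.mul hc hc]
  simp only [pow_succ, pow_zero, one_mul, mul_assoc]

theorem x8_pow : x8 ^ 4 = z := by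
  obtain ⟨ph, E, h8, -⟩ := exists_ph
  rw [← h8, ← fourth E C8, fourth_c8, E.z_eq]

theorem x12_pow : x12 ^ 6 = z := by
  obtain ⟨ph, E, -, h12⟩ := exists_ph
  rw [← h12, ← sixth E C12, sixth_c12, E.z_eq]

theorem x12_pow_four : x12 ^ 4 ≠ 1 := by
  obtain ⟨ph, E, -, h12⟩ := exists_ph
  rw [← h12, ← fourth E C12, ← ph_e1 E]
  intro h
  exact fourth_c12 (E.inj ((C12.mul C12).mul (C12.mul C12)) Held.Code.C_e1 h)

theorem card_cent8 : Nat.card (Subgroup.centralizer ({x8} : Set Cfsg.Spor.He)) ≤ 16 := by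
  obtain ⟨ph, E, h8, -⟩ := exists_ph
  have h := card_le_of_list chkQ8 C8 E (k := 4) (by rw [h8, x8_pow])
  rw [h8] at h
  exact h

theorem card_cent12 : Nat.card (Subgroup.centralizer ({x12} : Set Cfsg.Spor.He)) ≤ 12 := by
  obtain ⟨ph, E, -, h12⟩ := exists_ph
  have h := card_le_of_list chkQ12 C12 E (k := 6) (by rw [h12, x12_pow])
  rw [h12] at h
  exact h

theorem conj8 {g : Cfsg.Spor.He} (hg : g ^ 4 = z) : IsConj g x8 := by
  obtain ⟨ph, E, h8, -⟩ := exists_ph
  have hgz : g * z = z * g := by rw [← hg, ← pow_succ', ← pow_succ]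
  obtain ⟨c, hc, rfl⟩ := E.surj g hgz
  have hT : ∀ s c, C c → mu (mu c c) (mu c c) = zc →
      mu (mu (cjc s c) (cjc s c)) (mu (cjc s c) (cjc s c)) = zc := by
    intro s c hc h
    apply E.inj (((C_cjc hc).mul (C_cjc hc)).mul ((C_cjc hc).mul (C_cjc hc)))
      (by rw [← fourth_c8]; exact (C8.mul C8).mul (C8.mul C8))
    rw [fourth E (C_cjc hc), ph_cjc E hc, conj_pow, ← fourth E hc, h, E.z_eq, E.comm (C_cx s),
      mul_inv_cancel_right]
  obtain ⟨k, -, hk⟩ := reach E (T := fun c => mu (mu c c) (mu c c) = zc) hT (chkL_sound chk_m8)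
    (fun c hc h => cases8 hc h) c c le_rfl hc (by
      apply E.inj ((hc.mul hc).mul (hc.mul hc))
        (by rw [← fourth_c8]; exact (C8.mul C8).mul (C8.mul C8))
      rw [fourth E hc, hg, E.z_eq])
  rw [h8] at hk
  exact isConj_iff.2 ⟨k, hk⟩

theorem conj12 {g : Cfsg.Spor.He} (hg : g ^ 6 = z) (hg4 : g ^ 4 ≠ 1) : IsConj g x12 := by
  obtain ⟨ph, E, h8, h12⟩ := exists_ph
  have hgz : g * z = z * g := by rw [← hg, ← pow_succ', ← pow_succ]
  obtain ⟨c, hc, rfl⟩ := E.surj g hgz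
  have hzc : C zc := by rw [← fourth_c8]; exact (C8.mul C8).mul (C8.mul C8)
  have hT : ∀ s c, C c → (ph c ^ 6 = z ∧ ph c ^ 4 ≠ 1) → (ph (cjc s c) ^ 6 = z ∧
      ph (cjc s c) ^ 4 ≠ 1) := by
    intro s c hc h
    rw [ph_cjc E hc, conj_pow, conj_pow, h.1, E.comm (C_cx s), mul_inv_cancel_right]
    refine ⟨rfl, fun h2 => h.2 ?_⟩
    rwa [conj_eq_one_iff] at h2
  obtain ⟨k, -, hk⟩ := reach E (T := fun c => ph c ^ 6 = z ∧ ph c ^ 4 ≠ 1) hT (chkL_sound chk_m12)
    (fun c hc h => cases12 hc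
      (E.inj ((hc.mul hc).mul ((hc.mul hc).mul (hc.mul hc))) hzc (by rw [sixth E hc, h.1, E.z_eq]))
      (fun h2 => h.2 (by rw [← fourth E hc, h2, ph_e1 E]))) c c le_rfl hc ⟨hg, hg4⟩
  rw [h12] at hk
  exact isConj_iff.2 ⟨k, hk⟩

end Cfsg.Agent.H710.Spor.HeCent
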